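import Groth.Agent.QCohAffine.PullTilde
import Groth.Agent.QCohBase.Finite
import Groth.Prelude.Def_Coh

/-!
# Sections of pullbacks of quasi-coherent modules over affine opens
-/

set_option autoImplicit false
set_option backward.isDefEq.respectTransparency.types false

noncomputable section

universe u

open CategoryTheory Limits AlgebraicGeometry Opposite TopologicalSpace TensorProduct

namespace Groth.Agent.QCohPull

open Groth.Agent.QCohBase Groth.Agent.QCohAffine

variable {X Y : Scheme.{u}}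

/-- The restriction of the pullback to an affine open, as a tilde. -/
theorem nonempty_restrict_pullback_iso (g : X ⟶ Y) (F : Y.Modules) [F.IsQuasicoherent]
    {U : X.Opens} (hU : IsAffineOpen U) {W : Y.Opens} (hW : IsAffineOpen W) (e : U ≤ g ⁻¹ᵁ W) :
    Nonempty (((Scheme.Modules.pullback g).obj F).restrict hU.fromSpec ≅
      tilde ((ModuleCat.extendScalars (g.appLE W U e).hom).obj
        ((modulesSpecToSheaf.obj (F.restrict hW.fromSpec)).presheaf.obj (op ⊤)))) := by
  let N : ModuleCat.{u} Γ(Y, W) :=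
    (modulesSpecToSheaf.obj (F.restrict hW.fromSpec)).presheaf.obj (op ⊤)
  haveI : IsIso (F.restrict hW.fromSpec).fromTildeΓ := inferInstance
  let i₁ : tilde N ≅ F.restrict hW.fromSpec := asIso (F.restrict hW.fromSpec).fromTildeΓ
  exact ⟨(Scheme.Modules.restrictFunctorIsoPullback hU.fromSpec).app _ ≪≫
    (Scheme.Modules.pullbackComp hU.fromSpec g).app F ≪≫
    (Scheme.Modules.pullbackCongr (IsAffineOpen.SpecMap_appLE_fromSpec g hW hU e).symm).app F ≪≫
    ((Scheme.Modules.pullbackComp (Spec.map (g.appLE W U e)) hW.fromSpec).app F).symm ≪≫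
    (Scheme.Modules.pullback (Spec.map (g.appLE W U e))).mapIso
      (((Scheme.Modules.restrictFunctorIsoPullback hW.fromSpec).app F).symm ≪≫ i₁.symm) ≪≫
    (pullbackTildeIso (g.appLE W U e)).app N⟩

/-- Sections of a pullback on affine opens are the base change of the sections. -/
theorem nonempty_sections_pullback (g : X ⟶ Y) (F : Y.Modules) [F.IsQuasicoherent]
    {U : X.Opens} (hU : IsAffineOpen U) {W : Y.Opens} (hW : IsAffineOpen W) (e : U ≤ g ⁻¹ᵁ W) :
    letI := (g.appLE W U e).hom.toAlgebra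
    Nonempty ((Γ(X, U) ⊗[Γ(Y, W)] Γ(F, W)) ≃ₗ[Γ(X, U)] Γ((Scheme.Modules.pullback g).obj F, U)) := by
  letI := (g.appLE W U e).hom.toAlgebra
  obtain ⟨i⟩ := nonempty_restrict_pullback_iso g F hU hW e
  let N : ModuleCat.{u} Γ(Y, W) :=
    (modulesSpecToSheaf.obj (F.restrict hW.fromSpec)).presheaf.obj (op ⊤)
  let E : (ModuleCat.extendScalars (g.appLE W U e).hom).obj N ≅ ModuleCat.of Γ(X, U)
      (Γ(X, U) ⊗[Γ(Y, W)] N) := (nonempty_extendScalars_iso (A := Γ(X, U)) N _ rfl).some
  let a := ((asIso (tilde.adjunction (R := Γ(X, U))).unit).app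
    ((ModuleCat.extendScalars (g.appLE W U e).hom).obj N) ≪≫
    (moduleSpecΓFunctor (R := Γ(X, U))).mapIso i.symm).toLinearEquiv
  exact ⟨((LinearEquiv.baseChange Γ(Y, W) Γ(X, U) _ _ (sectionsEquiv F hW)).symm).trans
    (E.toLinearEquiv.symm.trans (a.trans (sectionsEquiv _ hU)))⟩

/-- Pullbacks of quasi-coherent modules are quasi-coherent. -/
theorem isQuasicoherent_pullback (g : X ⟶ Y) (F : Y.Modules) [F.IsQuasicoherent] :
    ((Scheme.Modules.pullback g).obj F).IsQuasicoherent :=
  isQuasicoherent_of_affine fun x => by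
    obtain ⟨_, ⟨W, hW, rfl⟩, hgx, -⟩ :=
      Y.isBasis_affineOpens.exists_subset_of_mem_open (Set.mem_univ (g x)) isOpen_univ
    obtain ⟨_, ⟨U, hU, rfl⟩, hx, hle⟩ :=
      X.isBasis_affineOpens.exists_subset_of_mem_open (show x ∈ g ⁻¹ᵁ W from hgx) (g ⁻¹ᵁ W).isOpen
    obtain ⟨i⟩ := nonempty_restrict_pullback_iso g F hU hW hle
    have hq : (((Scheme.Modules.pullback g).obj F).restrict hU.fromSpec).IsQuasicoherent :=
      (SheafOfModules.isQuasicoherent (Spec Γ(X, U)).ringCatSheaf).prop_of_iso i.symm inferInstance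
    exact ⟨U, hU, hx, inferInstance⟩

end Groth.Agent.QCohPull
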